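import Cfsg.Agent.H0.TC
set_option maxRecDepth 100000
namespace H0.TCS431
open H0
noncomputable def r0 : TC.WTr := (.node (.node (.node (.node (.node (.node (.leaf [1] 0 0 false) (.leaf [4, 3, 8, 0, 5] 28 4 false)) (.leaf [8, 0, 5, 7, 4] 28 0 false)) (.node (.node (.leaf [0] 0 1 false) (.leaf [9] 8 0 false)) (.leaf [2, 5, 1, 3] 27 2 false))) (.node (.node (.node (.leaf [3, 0, 3, 0, 3, 0, 3, 0, 3, 0, 3] 24 0 false) (.leaf [9] 8 0 false)) (.leaf [3, 8, 0, 5, 7] 28 5 false)) (.node (.node (.leaf [3] 2 0 false) (.leaf [8] 8 1 false)) (.leaf [5, 7, 5, 9, 4] 17 1 false)))) (.node (.node (.node (.node (.leaf [3, 5, 0, 3] 20 2 false) (.leaf [6] 6 1 false)) (.leaf [5] 4 0 false)) (.node (.node (.leaf [1, 7, 4, 7] 25 3 true) (.leaf [4, 6, 5, 7, 5] 17 5 false)) (.leaf [0, 3, 0, 3] 20 4 false))) (.node (.node (.node (.leaf [9, 2, 5, 6, 4] 28 3 true) (.leaf [9] 8 0 false)) (.leaf [5] 4 0 false)) (.node (.leaf [6, 5, 6, 0]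 25 1 false) (.leaf [7] 6 0 false))))) (.node (.node (.node (.node (.node (.leaf [4, 1, 4, 0] 26 2 true) (.leaf [5, 9, 4, 6, 5] 17 3 false)) (.leaf [2] 2 1 false)) (.node (.node (.leaf [3] 2 0 false) (.leaf [7] 13 1 false)) (.leaf [1, 3, 5, 2] 27 4 false))) (.node (.node (.node (.leaf [7, 4, 7, 2] 25 4 true) (.leaf [6] 13 0 true)) (.leaf [7, 5, 8, 4, 6] 17 3 true)) (.node (.leaf [3] 2 0 false) (.leaf [5, 6, 0, 3] 25 2 false)))) (.node (.node (.node (.node (.leaf [3, 6, 5, 6] 25 0 false) (.leaf [6] 6 1 false)) (.leaf [4, 4] 11 0 false)) (.node (.node (.leaf [3] 2 0 false) (.leaf [8] 8 1 false)) (.leaf [7] 6 0 false))) (.node (.node (.node (.leaf [0] 0 1 false) (.leaf [9] 8 0 false)) (.leaf [7, 5, 9, 4, 6] 17 2 false)) (.node (.leaf [0, 3, 5, 0] 20 1 false) (.leaf [7] 6 0 false))))))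
noncomputable def r1 : TC.WTr := (.node (.node (.node (.node (.node (.node (.leaf [5, 1, 1, 5] 26 0 false) (.leaf [7, 7] 12 0 true)) (.leaf [2] 2 1 false)) (.node (.node (.leaf [0] 0 1 false) (.leaf [8] 8 1 false)) (.leaf [5, 5] 11 0 true))) (.node (.node (.node (.leaf [0] 0 1 false) (.leaf [0, 5, 7, 4, 3] 28 1 false)) (.leaf [3, 4, 2, 0] 27 0 true)) (.node (.node (.leaf [3] 2 0 false) (.leaf [8] 8 1 false)) (.leaf [3, 0, 0, 3, 0] 21 0 true)))) (.node (.node (.node (.node (.leaf [5, 7, 4, 3, 8] 28 2 false) (.leaf [6] 6 1 false)) (.leaf [1, 4, 0, 0] 26 3 true)) (.node (.node (.leaf [3] 2 0 false) (.leaf [2, 5, 6, 4, 1] 28 4 true)) (.leaf [6, 0, 3, 6] 25 3 false))) (.node (.node (.node (.leaf [2, 1, 1, 2, 7] 21 0 false) (.leaf [9] 8 0 false)) (.leaf [4] 4 1 false)) (.node (.leaf [0, 0, 3, 0, 6] 21 1 true) (.leaf [7] 6 0 false))))) (.node (.node (.node (.node (.node (.leaf [3, 0, 6, 3, 0] 21 3 true) (.leaf [9]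 13 0 false)) (.leaf [2] 2 1 false)) (.node (.node (.leaf [7, 1, 2, 1, 1] 21 4 false) (.leaf [9, 9] 10 0 true)) (.leaf [1, 1, 5, 0] 26 1 false))) (.node (.node (.node (.leaf [1, 5, 0, 5] 26 2 false) (.leaf [4, 6, 4, 7, 5] 17 0 true)) (.leaf [2, 0, 4, 3] 27 2 true)) (.node (.leaf [2] 2 1 false) (.leaf [0, 3, 6, 5] 25 4 false)))) (.node (.node (.node (.node (.leaf [6, 3, 0, 0, 3] 21 5 true) (.leaf [6] 6 1 false)) (.leaf [7, 2, 1, 7] 25 1 true)) (.node (.node (.leaf [3] 2 0 false) (.leaf [8] 8 1 false)) (.leaf [8] 13 1 true))) (.node (.node (.node (.leaf [0] 0 1 false) (.leaf [9] 8 0 false)) (.leaf [0, 5, 1, 1] 26 4 false)) (.node (.leaf [3, 3, 3, 3, 3] 19 0 true) (.leaf [6] 6 1 false))))))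
noncomputable def tS : Tr := (.leaf (nat_lit 0x3ff9250291a135d9fb700429320fffc766ece3101ae64da162dae727ff649777f9e3701dd714407e150ffd757018a5d5596514f634404cfff7d95b645c02089d54c3f7f1e1ffdfb781e07161b5d9a978c3d8dbff1c98d1fc3c5cd58599c55cd8effda91c83c26d70381764d18a337ff76a368d9a47f87c5fdbe0ede3ffd8b5c17055531635ae0e96b383ff789e178576265e30e9e53ada8ffd28709c28d8962c5315d43a387ff471374dd524051c69ca58d81effd00394af251333d8752a01e1cfff14c8a2281d324ae1adc95dd55ffde43f4c743075075215d8c315fff38ca01a8e31511b1a41d56c68ffd173f0fc384532486725102077ff148a91601c4195530d5341113ffc8f1481c1d0c437c536389419bff2689b1946407070250e01dcadffd7f66949591134b81c69cfb18fff298c122ca6234521886107060ffc780e06e2b8e51d8cb0004410fff150781085410475100730fc00ffc731d03e0f4700f0360ec000ebff000000000000000078520741c))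
noncomputable def tJ : Tr := (.leaf (nat_lit 0x10001010e72400430023130032888010001010e7230070800100cc0181821000101060228070800200c00182283002313c03280603800278106100460800100c05081a110002010e002c041800200c005800008002014c01816200080200402040c0800100c0018183300201280300005200001808a2800110020000640280000002008400000a3002012c001000038042580201000028000001621800218060080a05802008020080010016010041000400280000000004000000a080000000008140001294a52900000))
noncomputable def tQ : Tr := (.leaf (nat_lit 0x0))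
noncomputable def tR : TC.WTr := (.node r0 r1)
def hl : List ℕ := [4, 5, 5, 4, 6, 7, 7, 6, 8, 9, 9, 8]
def B : List (List ℕ) := [[0, 1], [1, 0], [2, 3], [3, 2], [4, 5], [5, 4], [6, 7], [7, 6], [8, 9], [9, 8], [8, 8, 8], [4, 4, 4], [6, 6, 6], [7, 9], [4, 6, 4, 6, 4, 6, 4, 6, 4, 6, 4, 6], [4, 6, 5, 7, 4, 6, 5, 7, 4, 6, 5, 7, 4, 6, 5, 7], [4, 7, 4, 7, 4, 7, 4, 7], [4, 6, 5, 7, 5, 9], [0, 0, 0, 0, 0, 0], [2, 2, 2, 2, 2, 2], [0, 3, 0, 3, 5], [1, 2, 1, 1, 2, 7], [0, 2, 0, 2, 0, 2, 0, 2, 0, 2, 0, 2, 0, 2, 0, 2, 0, 2, 0, 2, 0, 2, 0, 2], [0, 2, 1, 3, 0, 2, 1, 3, 0, 2, 1, 3, 0, 2, 1, 3], [0, 3, 0, 3, 0, 3, 0, 3, 0, 3, 0, 3], [0, 3, 6, 5, 6], [0, 5, 1, 1, 5], [1, 3, 5, 2, 5], [3, 8, 0, 5, 7, 4]]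
def subs : List (List ℕ) := [[4], [5], [6], [7], [8], [9]]
def ex : List (List ℕ) := []
def inv (x : ℕ) : ℕ := [1, 0, 3, 2, 5, 4, 7, 6, 9, 8].getD x 0
noncomputable def rS : ℕ → ℕ := rowOf tS (nat_lit 7) (nat_lit 127) (nat_lit 110) (nat_lit 1298074214633706907132624082305023)
noncomputable def rJ : ℕ → ℕ := rowOf tJ (nat_lit 7) (nat_lit 127) (nat_lit 60) (nat_lit 1152921504606846975)
noncomputable def C : TC.Cfg where
  S := look rS (nat_lit 10) (nat_lit 1023)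
  J := look rJ (nat_lit 5) (nat_lit 31)
  Q := lookQ tQ (nat_lit 7) (nat_lit 1) (nat_lit 1)
  R := tR.get
  hl := fun x => hl.contains x
  n := (nat_lit 27)
  M := (nat_lit 27)
  top := (nat_lit 594)
  nl := (nat_lit 10)
  need := (nat_lit 10)
  nr := (nat_lit 9)
theorem k0 : TC.chkRange C 0 1 = true := by decide +kernel
theorem rows0 : ∀ c < (0 + 1) * 64, c < C.M → TC.chkRow C c = true :=
  TC.rows_step (TC.rows_zero C) k0
theorem main {G : Type*} [Group G] (g : ℕ → G) (hB : ∀ r ∈ B, ev g r = 1) (H : Subgroup G)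
    (hH : ∀ w ∈ subs, ev g w ∈ H) :
    H.relIndex (Subgroup.closure (g '' {x | x < 10})) ≠ 0 ∧
      H.relIndex (Subgroup.closure (g '' {x | x < 10})) ≤ 27 :=
  TC.index_le C B subs ex inv hl tR.hint rfl (by decide +kernel) (by decide +kernel)
    (TC.rows_done rows0 (by decide +kernel)) g hB H hH
end H0.TCS431
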